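/-
Checks on the involutions commuting with one involution of the presented group.
-/
import Cfsg.Agent.Lib.CosetEnum.ONOut.Check

set_option autoImplicit false
set_option maxHeartbeats 400000

namespace CfsgON.L37

open CfsgLib.CosetEnum CfsgLib.CosetEnum.ON122760 CfsgLib.CosetEnum.ONOut

/-- The letters of a packed word. -/
def decW : ℕ → ℕ → List ℕ
  | 0, _ => []
  | f + 1, x => if Nat.beq x 0 then [] else (x % 8 - 1) :: decW f (x / 8)

/-- An entry of a packed array. -/
def arr (w P i : ℕ) : ℕ := (Nat.shiftRight P (w * i)) % 2 ^ w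

/-- The image of the base. -/
noncomputable def keyW (w : List ℕ) : ℕ :=
  runT table 7 w 0 + 131072 * (runT table 7 w 16 + 131072 * runT table 7 w 75)

/-- Increasing below a bound. -/
def incF (f : ℕ → ℕ) (n : ℕ) : Bool := (List.range (n - 1)).all fun i => Nat.blt (f i) (f (i + 1))

/-- The six generators of the centraliser. -/
def six : List ℕ := [0, 1, 2, 3, 5, 6]

/-- The element of order nineteen. -/
def wX : List ℕ := [5, 4, 6, 4, 1, 6, 3, 6, 1, 4, 6, 4]

/-- One of the four words. -/
def macroW (s : List ℕ) (a : ℕ) : List ℕ := [wX, wX.reverse, [5], s].getD a []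

/-- A word in the four words. -/
def expand (s : List ℕ) (m : List ℕ) : List ℕ := (m.map (macroW s)).flatten

/-- The point `d` returns first at step `k`. -/
noncomputable def retAt (w : List ℕ) (d k : ℕ) : Bool :=
  Nat.rec (motive := fun _ => ℕ → Bool) (fun _ => false)
    (fun n ih r => force (runT table 7 w r) fun r' =>
      Bool.rec (!(Nat.beq r' d) && ih r') (Nat.beq r' d) (Nat.beq n 0)) k d

/-- A subgroup given by six words, up to conjugation. -/
structure Rep where
  /-- The index of the involution. -/
  idx : ℕ
  /-- Whether the outer image is meant. -/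
  outer : Bool
  /-- The conjugator. -/
  conj : List ℕ
  /-- The six words. -/
  words : List (List ℕ)

/-- The data. -/
structure LData where
  inv : ℕ → List ℕ
  key : ℕ → ℕ
  cmv : ℕ → ℕ → ℕ
  gens : List (List ℕ)
  syl : ℕ → List ℕ
  skey : ℕ → ℕ
  mv : ℕ → ℕ → ℕ
  par : ℕ → ℕ × ℕ
  srt : ℕ → ℕ
  sinv : ℕ → ℕ
  five : List ℕ
  seven : List ℕ
  threeA : List ℕ
  threeB : List ℕ
  tag : ℕ → ℕ
  mac : ℕ → List ℕ
  per : ℕ → ℕ
  prm : ℕ → ℕ
  pt : ℕ → ℕ
  reps : List Rep

namespace LData

/-- A word in the six generators. -/
noncomputable def okSix (w : List ℕ) : Bool := w.all fun x => six.contains x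

/-- The keys and the stability under the six generators, at an index. -/
noncomputable def invAt (D : LData) (j : ℕ) : Bool :=
  okSix (D.inv j) && Nat.beq (keyW (D.inv j)) (D.key j) &&
    (List.range 6).all fun x => Nat.blt (D.cmv j x) 1751 &&
      Nat.beq (keyW ([six.getD x 0] ++ D.inv j ++ [six.getD x 0])) (D.key (D.cmv j x))

/-- An element of the Sylow subgroup. -/
noncomputable def sylAt (D : LData) (i : ℕ) : Bool :=
  okSix (D.syl i) && Nat.beq (keyW (D.syl i)) (D.skey i) &&
    ((List.range D.gens.length).all fun g => Nat.blt (D.mv g i) 512 &&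
      Nat.beq (keyW (D.gens.getD g [] ++ D.syl i)) (D.skey (D.mv g i))) &&
    (!(atBase (D.syl i ++ D.syl i)) || atBase (D.syl i) ||
      (Nat.blt (D.sinv i) 1751 && Nat.beq (D.skey i) (D.key (D.sinv i))))

/-- The shape of the Sylow subgroup. -/
noncomputable def sylShape (D : LData) : Bool :=
  D.gens.all okSix && Nat.beq (D.skey 0) (keyW []) && incF (fun i => D.skey (D.srt i)) 512 &&
    ((List.range 512).all fun i => Nat.blt (D.srt i) 512) &&
    (List.range 511).all fun i => Nat.blt (D.par i).1 D.gens.length && Nat.ble (D.par i).2 i &&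
      Nat.beq (D.mv (D.par i).1 (D.par i).2) (i + 1)

/-- The other primes. -/
noncomputable def oddPart (D : LData) : Bool :=
  okSix D.five && okSix D.seven && okSix D.threeA && okSix D.threeB &&
    atBase (powW D.five 5) && !(atBase D.five) && atBase (powW D.seven 7) && !(atBase D.seven) &&
    atBase (powW D.threeA 3) && !(atBase D.threeA) && atBase (powW D.threeB 3) && !(atBase D.threeB) &&
    okEq (D.threeA ++ D.threeB) (D.threeB ++ D.threeA) &&
    !(Nat.beq (keyW D.threeB) (keyW D.threeA)) && !(Nat.beq (keyW D.threeB) (keyW (D.threeA ++ D.threeA))) &&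
    six.all fun x => okEq [5, x] [x, 5]

/-- The target words of a case. -/
def target (r : Rep) (i : ℕ) : List ℕ :=
  r.conj.reverse ++ (bif r.outer then (phiW.getD i []).reverse else [i]) ++ r.conj

/-- A case generates the whole of a conjugate of the point stabiliser. -/
noncomputable def repOK (D : LData) (r : Rep) : Bool :=
  Nat.blt r.idx 1751 && okLet r.conj && (List.range 6).all fun i =>
    (r.words.getD i []).all (fun a => Nat.blt a 4) &&
      okEq (expand (D.inv r.idx) (r.words.getD i [])) (target r i)

/-- The verdict at an index: zero for the involution itself, one for a forbidden order, else a case. -/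
noncomputable def tagAt (D : LData) (j : ℕ) : Bool :=
  okLet (D.inv j) && (D.mac j).all (fun a => Nat.blt a 4) &&
    match D.tag j with
    | 0 => okEq (D.inv j) [5]
    | 1 => Nat.blt (D.pt j) 122760 && [5, 11, 31].contains (D.prm j) && Nat.beq (D.per j % D.prm j) 0 &&
        retAt (expand (D.inv j) (D.mac j)) (D.pt j) (D.per j)
    | n + 2 => Nat.blt n D.reps.length &&
        okEq (expand (D.inv j) (D.mac j)) (D.inv (D.reps.getD n ⟨0, false, [], []⟩).idx)

/-- The element of order nineteen and the involution. -/
noncomputable def nineOK : Bool :=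
  atBase (powW wX 19) && !(atBase wX) && okEq ([5] ++ wX ++ [5]) wX.reverse && atBase [5, 5] && !(atBase [5])

end LData

end CfsgON.L37
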