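/-
A subgroup containing the two given elements and one more involution is conjugate to the point stabiliser
or to its outer image.
-/
import Cfsg.Agent.Lib.CosetEnum.ONOut.Main
import Cfsg.Agent.Lib.ONRecog.L37.Checker

set_option autoImplicit false
set_option maxHeartbeats 400000
set_option linter.unusedSectionVars false
set_option linter.style.haveILetI false

namespace CfsgON.L37

open Subgroup CfsgLib.CosetEnum CfsgLib.CosetEnum.ON122760 CfsgLib.CosetEnum.ONOut
open scoped Pointwise

theorem runT_lt {w : List ℕ} (hw : okLet w = true) {d : ℕ} (hd : d < 122760) : runT table 7 w d < 122760 :=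
  lt_of_eq_of_lt (el_run hw ⟨d, hd⟩).symm (hm (el w) ⟨d, hd⟩).2

theorem el_eq_key {a b : List ℕ} (ha : okLet a = true) (hb : okLet b = true) (h : keyW a = keyW b) : el a = el b := by
  simp only [keyW] at h
  have a0 := runT_lt ha (show 0 < 122760 by norm_num)
  have a1 := runT_lt ha (show 16 < 122760 by norm_num)
  have b0 := runT_lt hb (show 0 < 122760 by norm_num)
  have b1 := runT_lt hb (show 16 < 122760 by norm_num)
  have h0 : runT table 7 a 0 = runT table 7 b 0 := by omega
  have h1 : runT table 7 a 16 = runT table 7 b 16 := by omega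
  have h2 : runT table 7 a 75 = runT table 7 b 75 := by omega
  have e : (el b)⁻¹ * el a = 1 := by
    refine on_fix_base _ fun d hd => ?_
    rw [map_mul, Equiv.Perm.mul_apply]
    have hab : hm (el a) d = hm (el b) d := Fin.ext (by
      rw [el_run ha, el_run hb]
      simp only [List.mem_cons, List.not_mem_nil, or_false] at hd
      rcases hd with e | e | e <;> rw [e] <;> assumption)
    rw [hab, ← Equiv.Perm.mul_apply, ← map_mul, inv_mul_cancel, map_one, Equiv.Perm.one_apply]
  exact (inv_mul_eq_one.mp e).symm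

theorem okSix_let {w : List ℕ} (h : LData.okSix w = true) : okLet w = true := by
  simp only [LData.okSix, List.all_eq_true] at h
  refine List.all_eq_true.mpr fun x hx => blt_iff.mpr ?_
  have h' := List.contains_iff_mem.mp (h x hx)
  simp only [six, List.mem_cons, List.not_mem_nil, or_false] at h'
  omega

/-- The group of the six generators. -/
noncomputable def six' : Subgroup presON.Grp := closure {g | ∃ x ∈ six, el [x] = g}

theorem el_six {w : List ℕ} (h : LData.okSix w = true) : el w ∈ six' := by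
  simp only [LData.okSix, List.all_eq_true] at h
  induction w with
  | nil => rw [el_nil]; exact one_mem _
  | cons x w ih =>
    rw [show x :: w = [x] ++ w from rfl, el_append]
    exact mul_mem (ih fun y hy => h y (List.mem_cons_of_mem _ hy))
      (subset_closure ⟨x, List.contains_iff_mem.mp (h x List.mem_cons_self), rfl⟩)

theorem orderOf_el {w : List ℕ} {p : ℕ} (hp : p.Prime) (hw : okLet w = true) (h1 : atBase (powW w p) = true)
    (h2 : atBase w = false) : orderOf (el w) = p := by
  haveI : Fact p.Prime := ⟨hp⟩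
  refine orderOf_eq_prime ?_ fun e => ?_
  · rw [← el_powW]; exact (el_eq_one (okLet_powW hw p)).mpr h1
  · rw [(el_eq_one hw).mp e] at h2; exact Bool.noConfusion h2

theorem retAt_eq {w : List ℕ} {d : ℕ} : ∀ k r : ℕ, (Nat.rec (motive := fun _ => ℕ → Bool) (fun _ => false)
    (fun n ih r => force (runT table 7 w r) fun r' =>
      Bool.rec (!(Nat.beq r' d) && ih r') (Nat.beq r' d) (Nat.beq n 0)) k r : Bool) = true →
    0 < k ∧ (runT table 7 w)^[k] r = d ∧ ∀ i, 0 < i → i < k → (runT table 7 w)^[i] r ≠ d := by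
  intro k
  induction k with
  | zero => intro r h; exact Bool.noConfusion h
  | succ n ih =>
    intro r h
    simp only [force_eq] at h ih
    cases n with
    | zero => exact ⟨by omega, Nat.eq_of_beq_eq_true h, fun i h1 h2 => by omega⟩
    | succ m =>
      have h' : (!(Nat.beq (runT table 7 w r) d) && _) = true := h
      rw [Bool.and_eq_true, Bool.not_eq_true'] at h'
      obtain ⟨-, h2, h3⟩ := ih _ h'.2
      refine ⟨by omega, ?_, fun i hi1 hi2 => ?_⟩
      · rw [Function.iterate_succ_apply]; exact h2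
      · rcases i with _ | i
        · omega
        · rw [Function.iterate_succ_apply]
          rcases Nat.eq_zero_or_pos i with rfl | hi
          · exact Nat.ne_of_beq_eq_false h'.1
          · exact h3 i hi (by omega)

theorem dvd_order_of_ret {w : List ℕ} (hw : okLet w = true) {d : ℕ} (hd : d < 122760) {k : ℕ}
    (h : retAt w d k = true) : k ∣ orderOf (el w) := by
  obtain ⟨hk, hper, hmin⟩ := retAt_eq k d h
  have hit : ∀ i (x : Fin cert.T.n), ((hm (el w ^ i)) x : ℕ) = (runT table 7 w)^[i] x := by
    intro i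
    induction i with
    | zero => intro x; rw [pow_zero, map_one]; rfl
    | succ i ih => intro x; rw [pow_succ, map_mul, Equiv.Perm.mul_apply, ih, el_run hw, Function.iterate_succ_apply]
  have hko : hm (el w ^ k) ⟨d, hd⟩ = ⟨d, hd⟩ := Fin.ext ((hit k _).trans hper)
  refine Nat.dvd_of_mod_eq_zero (Nat.eq_zero_of_not_pos fun hpos => ?_)
  set n := orderOf (el w)
  have hq : ∀ q, hm ((el w ^ k) ^ q) ⟨d, hd⟩ = ⟨d, hd⟩ := by
    intro q
    induction q with
    | zero => rw [pow_zero, map_one]; rfl
    | succ q ih => rw [pow_succ, map_mul, Equiv.Perm.mul_apply, hko, ih]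
  have h1 : hm (el w ^ (n % k)) ⟨d, hd⟩ = ⟨d, hd⟩ := by
    conv_lhs => rw [← hq (n / k)]
    rw [← Equiv.Perm.mul_apply, ← map_mul, ← pow_mul, ← pow_add, Nat.mod_add_div, pow_orderOf_eq_one, map_one]
    rfl
  exact hmin _ hpos (Nat.mod_lt _ hk) ((hit _ _).symm.trans (congrArg Fin.val h1))

namespace LData

/-- All the checks. -/
structure Good (D : LData) : Prop where
  invs : ∀ j < 1751, D.invAt j = true
  syls : ∀ i < 512, D.sylAt i = true
  shape : D.sylShape = true
  odd : D.oddPart = true
  reps : ∀ r ∈ D.reps, D.repOK r = true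
  tags : ∀ j < 1751, D.tagAt j = true

variable {D : LData} (hD : D.Good)
include hD

theorem six_le : six' ≤ centralizer ({el [5]} : Set presON.Grp) := by
  refine (closure_le _).mpr ?_
  rintro _ ⟨x, hx, rfl⟩
  have h := hD.odd
  simp only [oddPart, Bool.and_eq_true, List.all_eq_true] at h
  have e := el_eq (h.2 x hx)
  rw [show [5, x] = [5] ++ [x] from rfl, show [x, 5] = [x] ++ [5] from rfl, el_append, el_append] at e
  exact mem_centralizer_singleton_iff.mpr e

/-- The set of listed involutions. -/
def invSet (D : LData) : Set presON.Grp := {g | ∃ j < 1751, el (D.inv j) = g}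

theorem invSet_conj {c : presON.Grp} (hc : c ∈ six') : ∀ g ∈ invSet D, c * g * c⁻¹ ∈ invSet D := by
  have hinv : ∀ x, (el [x])⁻¹ = el [x] := fun x => (el_reverse [x]).symm
  have step : ∀ x ∈ six, ∀ g ∈ invSet D, el [x] * g * el [x] ∈ invSet D := by
    rintro x hx g ⟨j, hj, rfl⟩
    obtain ⟨i, hi, rfl⟩ := List.getElem_of_mem hx
    have h := hD.invs j hj
    simp only [invAt, Bool.and_eq_true, List.all_eq_true, List.mem_range, Nat.blt_eq] at h
    obtain ⟨hlt, hk⟩ := h.2 i hi
    have h' := hD.invs _ hlt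
    simp only [invAt, Bool.and_eq_true] at h'
    rw [← Nat.eq_of_beq_eq_true h'.1.2, List.getD_eq_getElem _ _ hi] at hk
    have hxs : okSix [six[i]] = true := by
      simp only [okSix, List.all_eq_true, List.mem_singleton]
      rintro _ rfl
      exact List.contains_iff_mem.mpr (List.getElem_mem hi)
    have e2 := el_eq_key (okLet_append.mpr ⟨okLet_append.mpr ⟨okSix_let hxs, okSix_let h.1.1⟩, okSix_let hxs⟩)
      (okSix_let h'.1.1) (Nat.eq_of_beq_eq_true hk)
    refine ⟨_, hlt, ?_⟩
    rw [← e2, el_append, el_append]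
    simp only [mul_assoc]
  induction hc using closure_induction_left with
  | one => intro g hg; simpa using hg
  | mul_left a ha y hy ih =>
    intro g hg
    obtain ⟨x, hx, rfl⟩ := ha
    rw [mul_inv_rev, hinv, show el [x] * y * g * (y⁻¹ * el [x]) = el [x] * (y * g * y⁻¹) * el [x] by group]
    exact step x hx _ (ih g hg)
  | inv_mul_cancel a ha y hy ih =>
    intro g hg
    obtain ⟨x, hx, rfl⟩ := ha
    rw [mul_inv_rev, hinv, hinv, show el [x] * y * g * (y⁻¹ * el [x]) = el [x] * (y * g * y⁻¹) * el [x] by group]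
    exact step x hx _ (ih g hg)

/-- The Sylow subgroup of the centraliser. -/
theorem syl_spec : ∃ S : Subgroup presON.Grp, S ≤ six' ∧ Nat.card S = 512 ∧
    ∀ g ∈ S, g * g = 1 → g = 1 ∨ g ∈ invSet D := by
  classical
  haveI : Finite presON.Grp := presON_upper.1
  have hsh := hD.shape
  simp only [sylShape, Bool.and_eq_true, List.all_eq_true, List.mem_range, Nat.blt_eq, Nat.ble_eq] at hsh
  obtain ⟨⟨⟨⟨hg6, hk0⟩, hinc⟩, hlt⟩, hpar⟩ := hsh
  have hat : ∀ {i}, i < 512 → okSix (D.syl i) = true ∧ keyW (D.syl i) = D.skey i ∧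
      (∀ g < D.gens.length, D.mv g i < 512 ∧ keyW (D.gens.getD g [] ++ D.syl i) = D.skey (D.mv g i)) ∧
      ((atBase (D.syl i ++ D.syl i) = false ∨ atBase (D.syl i) = true) ∨
        D.sinv i < 1751 ∧ D.skey i = D.key (D.sinv i)) := by
    intro i hi
    have h := hD.syls i hi
    simp only [sylAt, Bool.and_eq_true, Bool.or_eq_true, Bool.not_eq_true', List.all_eq_true, List.mem_range,
      Nat.blt_eq] at h
    obtain ⟨⟨⟨h1, h2⟩, h3⟩, h4⟩ := h
    refine ⟨h1, Nat.eq_of_beq_eq_true h2, fun g hg => ⟨(h3 g hg).1, Nat.eq_of_beq_eq_true (h3 g hg).2⟩, ?_⟩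
    rcases h4 with h4 | ⟨h4, h5⟩
    · exact .inl h4
    · exact .inr ⟨h4, Nat.eq_of_beq_eq_true h5⟩
  let e : ℕ → presON.Grp := fun i => el (D.syl i)
  have hgen : ∀ g, g < D.gens.length → okSix (D.gens.getD g []) = true := fun g hg => by
    rw [List.getD_eq_getElem _ _ hg]; exact hg6 _ (List.getElem_mem hg)
  have hstep : ∀ g < D.gens.length, ∀ i < 512, e i * el (D.gens.getD g []) = e (D.mv g i) ∧ D.mv g i < 512 := by
    intro g hg i hi
    obtain ⟨hj, hk⟩ := (hat hi).2.2.1 g hg
    refine ⟨?_, hj⟩
    rw [← (hat hj).2.1] at hk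
    rw [← el_append]
    exact el_eq_key (okLet_append.mpr ⟨okSix_let (hgen g hg), okSix_let (hat hi).1⟩) (okSix_let (hat hj).1) hk
  have e0 : e 0 = 1 := by
    have hk := Nat.eq_of_beq_eq_true hk0
    rw [← (hat (i := 0) (by norm_num)).2.1] at hk
    exact (el_eq_key (okSix_let (hat (by norm_num)).1) rfl hk).trans el_nil
  let S := closure {g : presON.Grp | ∃ w ∈ D.gens, el w = g}
  have hsub : ∀ i < 512, e i ∈ S := by
    intro i
    induction i using Nat.strong_induction_on with
    | _ i ih =>
      intro hi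
      rcases Nat.eq_zero_or_pos i with rfl | hpos
      · rw [e0]; exact one_mem _
      · obtain ⟨⟨hp1, hp2⟩, hp3⟩ := hpar (i - 1) (by omega)
        have hj : (D.par (i - 1)).2 < 512 := by omega
        have h := (hstep _ hp1 _ hj).1
        rw [Nat.eq_of_beq_eq_true hp3, show i - 1 + 1 = i by omega] at h
        rw [← h]
        refine mul_mem (ih _ (by omega) hj) (subset_closure ⟨_, ?_, rfl⟩)
        rw [List.getD_eq_getElem _ _ hp1]; exact List.getElem_mem hp1
  let A : Finset presON.Grp := (Finset.range 512).image e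
  have hA : ∀ g, g ∈ A ↔ ∃ i < 512, e i = g := fun g => by simp [A]
  have hmul : ∀ g ∈ S, ∀ x ∈ A, x * g ∈ A := by
    have hle : S ≤ MulAction.stabilizer presON.Grp ((A : Set presON.Grp)⁻¹) := by
      refine (closure_le _).mpr ?_
      rintro _ ⟨w, hw, rfl⟩
      obtain ⟨g, hg, rfl⟩ := List.getElem_of_mem hw
      refine inv_mem_iff.mp ?_
      rw [MulAction.mem_stabilizer_iff]
      refine Set.eq_of_subset_of_ncard_le ?_ (by rw [Set.ncard_smul_set]) (Set.toFinite _)
      rintro _ ⟨x, hx, rfl⟩
      obtain ⟨i, hi, ei⟩ := (hA _).mp (Finset.mem_coe.mp (Set.mem_inv.mp hx))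
      obtain ⟨hs1, hs2⟩ := hstep g hg i hi
      rw [List.getD_eq_getElem _ _ hg, ei] at hs1
      refine Set.mem_inv.mpr (Finset.mem_coe.mpr ((hA _).mpr ⟨_, hs2, ?_⟩))
      simp only [smul_eq_mul, mul_inv_rev, inv_inv]
      exact hs1.symm
    intro g hg x hx
    have h := MulAction.mem_stabilizer_iff.mp (hle (inv_mem hg))
    have : g⁻¹ • x⁻¹ ∈ (A : Set presON.Grp)⁻¹ := by
      rw [← h]; exact Set.smul_mem_smul_set (Set.mem_inv.mpr (by rw [inv_inv]; exact hx))
    simpa using this
  have hSA : ∀ g, g ∈ S ↔ g ∈ A := fun g => by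
    refine ⟨fun hg => ?_, fun hg => ?_⟩
    · simpa using hmul g hg 1 ((hA _).mpr ⟨0, by norm_num, e0⟩)
    · obtain ⟨i, hi, rfl⟩ := (hA g).mp hg
      exact hsub i hi
  refine ⟨S, ?_, ?_, ?_⟩
  · refine (closure_le _).mpr ?_
    rintro _ ⟨w, hw, rfl⟩
    exact el_six (hg6 w hw)
  · have hinj : ∀ a b, a < b → b < 512 → D.skey (D.srt a) < D.skey (D.srt b) := by
      intro a b hab hb
      simp only [incF, List.all_eq_true, List.mem_range, Nat.blt_eq] at hinc
      induction b with
      | zero => omega
      | succ b ih =>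
        rcases Nat.lt_succ_iff_lt_or_eq.mp hab with h' | rfl
        · exact (ih h' (by omega)).trans (hinc b (by omega))
        · exact hinc a (by omega)
    have hcA : A.card = 512 := by
      refine le_antisymm (Finset.card_image_le.trans (Finset.card_range 512).le) ?_
      calc 512 = ((Finset.range 512).image fun a => D.skey (D.srt a)).card := by
            rw [Finset.card_image_of_injOn, Finset.card_range]
            intro a ha b hb hab
            have ha' := Finset.mem_range.mp (Finset.mem_coe.mp ha)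
            have hb' := Finset.mem_range.mp (Finset.mem_coe.mp hb)
            rcases lt_trichotomy a b with h | h | h
            · exact absurd hab (hinj a b h hb').ne
            · exact h
            · exact absurd hab (hinj b a h ha').ne'
        _ ≤ (A.image fun g => (hm g ⟨0, cert.hn⟩ : ℕ) + 131072 * ((hm g ⟨16, show 16 < 122760 by norm_num⟩ : ℕ) +
            131072 * (hm g ⟨75, show 75 < 122760 by norm_num⟩ : ℕ))).card := by
            refine Finset.card_le_card fun k hk => ?_
            obtain ⟨a, ha, rfl⟩ := Finset.mem_image.mp hk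
            have ha' := hlt a (Finset.mem_range.mp ha)
            refine Finset.mem_image.mpr ⟨e (D.srt a), (hA _).mpr ⟨_, ha', rfl⟩, ?_⟩
            rw [← (hat ha').2.1, keyW]
            simp only [e, el_run (okSix_let (hat ha').1)]
        _ ≤ A.card := Finset.card_image_le
    rw [← hcA, ← Nat.card_eq_finsetCard A]
    exact Nat.card_congr (Equiv.subtypeEquivRight hSA)
  · intro g hg hg2
    obtain ⟨i, hi, rfl⟩ := (hA g).mp ((hSA g).mp hg)
    obtain ⟨hw, -, -, h4⟩ := hat hi
    have hw' := okSix_let hw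
    rcases h4 with (h4 | h4) | ⟨hj, h5⟩
    · exfalso
      have := (el_eq_one (w := D.syl i ++ D.syl i) (okLet_append.mpr ⟨hw', hw'⟩)).mp (by rw [el_append]; exact hg2)
      rw [this] at h4
      exact Bool.noConfusion h4
    · exact .inl ((el_eq_one hw').mpr h4)
    · refine .inr ⟨_, hj, ?_⟩
      have h' := hD.invs _ hj
      simp only [invAt, Bool.and_eq_true] at h'
      refine el_eq_key (okSix_let h'.1.1) hw' ?_
      rw [Nat.eq_of_beq_eq_true h'.1.2, (hat hi).2.1, h5]

/-- The six generators generate the centraliser. -/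
theorem six_eq (hc : Nat.card (centralizer ({el [5]} : Set presON.Grp)) = 161280) :
    six' = centralizer ({el [5]} : Set presON.Grp) := by
  classical
  haveI : Finite presON.Grp := presON_upper.1
  haveI : Fact (Nat.Prime 3) := ⟨by norm_num⟩
  refine eq_of_le_of_card_ge (six_le hD) ?_
  rw [hc]
  obtain ⟨S, hS, hS512, -⟩ := syl_spec hD
  have h := hD.odd
  simp only [oddPart, Bool.and_eq_true, Bool.not_eq_true'] at h
  obtain ⟨⟨⟨⟨⟨⟨⟨⟨⟨⟨⟨⟨⟨⟨⟨h5, h7⟩, ha⟩, hb⟩, a5⟩, b5⟩, a7⟩, b7⟩, aa⟩, ba⟩, ab⟩, bb⟩, hab⟩, hne1⟩, hne2⟩, -⟩ := h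
  have d512 : 512 ∣ Nat.card six' := hS512 ▸ card_dvd_of_le hS
  have hp : ∀ {w p}, Nat.Prime p → okSix w = true → atBase (powW w p) = true → atBase w = false → p ∣ Nat.card six' :=
    fun {w p} hp h1 h2 h3 => orderOf_el hp (okSix_let h1) h2 h3 ▸ Subgroup.orderOf_dvd_natCard _ (el_six h1)
  have d5 := hp (by norm_num : Nat.Prime 5) h5 a5 b5
  have d7 := hp (by norm_num : Nat.Prime 7) h7 a7 b7
  have d9 : 9 ∣ Nat.card six' := by
    set a := el D.threeA
    set b := el D.threeB
    have oa : orderOf a = 3 := orderOf_el (by norm_num) (okSix_let ha) aa ba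
    have ob : orderOf b = 3 := orderOf_el (by norm_num) (okSix_let hb) ab bb
    have hcom : Commute b a := by
      have e := el_eq hab
      rwa [el_append, el_append] at e
    let f : Subgroup presON.Grp := zpowers a ⊔ zpowers b
    have hP : IsPGroup 3 f := by
      refine IsPGroup.to_sup_of_normal_right' (IsPGroup.of_card (n := 1) (by rw [Nat.card_zpowers, oa, pow_one]))
        (IsPGroup.of_card (n := 1) (by rw [Nat.card_zpowers, ob, pow_one])) ?_
      rw [zpowers_le, mem_normalizer_iff]
      intro h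
      constructor
      · intro hh
        obtain ⟨k, rfl⟩ := mem_zpowers_iff.mp hh
        rw [(hcom.symm.zpow_right k).eq, mul_inv_cancel_right]
        exact zpow_mem (mem_zpowers b) k
      · intro hh
        obtain ⟨k, hk⟩ := mem_zpowers_iff.mp hh
        have : h = b ^ k := by
          rw [show h = a⁻¹ * b ^ k * a by rw [hk]; group, mul_assoc, ← (hcom.symm.zpow_right k).eq, inv_mul_cancel_left]
        rw [this]
        exact zpow_mem (mem_zpowers b) k
    obtain ⟨n, hn⟩ := IsPGroup.iff_card.mp hP
    have hlt : Nat.card (zpowers a) < Nat.card f := by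
      by_contra hge
      push Not at hge
      have e := eq_of_le_of_card_ge (le_sup_left : zpowers a ≤ f) hge
      have hbm : b ∈ zpowers a := e ▸ mem_sup_right (mem_zpowers b)
      obtain ⟨k, hk⟩ := mem_powers_iff_mem_zpowers.mpr hbm
      have hk' : a ^ (k % 3) = b := by rw [← oa, pow_mod_orderOf]; exact hk
      obtain h | h | h : k % 3 = 0 ∨ k % 3 = 1 ∨ k % 3 = 2 := by omega
      · rw [h, pow_zero] at hk'
        rw [← hk', orderOf_one] at ob
        omega
      · rw [h, pow_one] at hk'
        exact Nat.ne_of_beq_eq_false hne1 (congrArg (fun g : presON.Grp => (hm g ⟨0, cert.hn⟩ : ℕ) + 131072 *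
          ((hm g ⟨16, show 16 < 122760 by norm_num⟩ : ℕ) + 131072 * (hm g ⟨75, show 75 < 122760 by norm_num⟩ : ℕ)))
          hk'.symm |> fun e => by
            simp only [a, b, el_run (okSix_let ha), el_run (okSix_let hb)] at e
            exact e)
      · rw [h, pow_two, show a * a = el (D.threeA ++ D.threeA) from (el_append _ _).symm] at hk'
        exact Nat.ne_of_beq_eq_false hne2 (congrArg (fun g : presON.Grp => (hm g ⟨0, cert.hn⟩ : ℕ) + 131072 *
          ((hm g ⟨16, show 16 < 122760 by norm_num⟩ : ℕ) + 131072 * (hm g ⟨75, show 75 < 122760 by norm_num⟩ : ℕ)))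
          hk'.symm |> fun e => by
            simp only [b, el_run (okLet_append.mpr ⟨okSix_let ha, okSix_let ha⟩), el_run (okSix_let hb)] at e
            exact e)
    rw [hn, Nat.card_zpowers, oa] at hlt
    have h2n : 2 ≤ n := by
      by_contra hcon
      interval_cases n <;> norm_num at hlt
    refine Nat.dvd_trans ?_ (card_dvd_of_le (sup_le (zpowers_le.mpr (el_six ha)) (zpowers_le.mpr (el_six hb))) : Nat.card f ∣ _)
    rw [hn]
    exact pow_dvd_pow 3 h2n
  refine Nat.le_of_dvd Nat.card_pos ?_
  have := Nat.Coprime.mul_dvd_of_dvd_of_dvd (show Nat.Coprime 512 5 by norm_num) d512 d5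
  have := Nat.Coprime.mul_dvd_of_dvd_of_dvd (show Nat.Coprime (512 * 5) 7 by norm_num) this d7
  have := Nat.Coprime.mul_dvd_of_dvd_of_dvd (show Nat.Coprime (512 * 5 * 7) 9 by norm_num) this d9
  simpa using this

/-- Every involution of the centraliser is listed. -/
theorem mem_invSet (hc : Nat.card (centralizer ({el [5]} : Set presON.Grp)) = 161280) {s : presON.Grp}
    (hs : Commute s (el [5])) (hs2 : s * s = 1) (hs1 : s ≠ 1) : s ∈ invSet D := by
  classical
  haveI : Finite presON.Grp := presON_upper.1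
  haveI : Fact (Nat.Prime 2) := ⟨Nat.prime_two⟩
  let C := centralizer ({el [5]} : Set presON.Grp)
  obtain ⟨S, hS, hS512, hmem⟩ := syl_spec hD
  have hSC : S ≤ C := hS.trans (six_le hD)
  have hcS : Nat.card (S.subgroupOf C) = 2 ^ 9 := by
    rw [Nat.card_congr (subgroupOfEquivOfLe hSC).toEquiv, hS512]; norm_num
  have hidx : ¬ 2 ∣ (S.subgroupOf C).index := by
    have h := (S.subgroupOf C).card_mul_index
    rw [hcS, show Nat.card C = 161280 from hc] at h
    omega
  let P : Sylow 2 C := (IsPGroup.of_card hcS).toSylow hidx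
  have hsC : s ∈ C := mem_centralizer_singleton_iff.mpr hs.eq
  obtain ⟨Q, hQ⟩ := (IsPGroup.of_card (p := 2) (n := 1) (G := ↥(zpowers (⟨s, hsC⟩ : C))) (by
    rw [Nat.card_zpowers, pow_one, orderOf_eq_prime_iff]
    exact ⟨Subtype.ext (by rw [pow_two]; exact hs2), fun h => hs1 (congrArg Subtype.val h)⟩)).exists_le_sylow
  obtain ⟨g, hg⟩ := MulAction.exists_smul_eq C Q P
  have h1 : g * ⟨s, hsC⟩ * g⁻¹ ∈ (P : Subgroup C) := by
    rw [← hg, Sylow.coe_subgroup_smul]
    exact smul_mem_pointwise_smul (⟨s, hsC⟩ : C) (MulAut.conj g) _ (hQ (mem_zpowers _))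
  have hgS : (g : presON.Grp) * s * (g : presON.Grp)⁻¹ ∈ S := mem_subgroupOf.mp h1
  rcases hmem _ hgS (by
    rw [show (g : presON.Grp) * s * (g : presON.Grp)⁻¹ * ((g : presON.Grp) * s * (g : presON.Grp)⁻¹) =
      (g : presON.Grp) * (s * s) * (g : presON.Grp)⁻¹ by group, hs2, mul_one, mul_inv_cancel]) with h | h
  · exact absurd (conj_eq_one_iff.mp h) hs1
  · have hg6 : (g : presON.Grp)⁻¹ ∈ six' := by rw [six_eq hD hc]; exact inv_mem g.2
    have := invSet_conj hD hg6 _ h
    simpa [mul_assoc] using this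

/-- The subgroup is the point stabiliser or its outer image, up to conjugation. -/
theorem classify (hc : Nat.card (centralizer ({el [5]} : Set presON.Grp)) = 161280) (K : Subgroup presON.Grp)
    (hK : Nat.card K = 3753792) (hX : el wX ∈ K) (hz : el [5] ∈ K) (s : presON.Grp) (hs : s ∈ K) (hs2 : s * s = 1)
    (hs1 : s ≠ 1) (hs5 : s ≠ el [5]) (hcom : Commute s (el [5])) :
    ∃ ψ : MulAut presON.Grp, ON122760.cert.sub.map ψ.toMonoidHom = K := by
  classical
  haveI : Finite presON.Grp := presON_upper.1
  obtain ⟨j, hj, rfl⟩ := mem_invSet hD hc hcom hs2 hs1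
  have hmac : ∀ i, el (D.inv i) ∈ K → ∀ m : List ℕ, (∀ a ∈ m, a < 4) → el (expand (D.inv i) m) ∈ K := by
    intro i hi m hm'
    refine el_flatten_mem K _ fun w hw => ?_
    obtain ⟨a, ha, rfl⟩ := List.mem_map.mp hw
    have ha' := hm' a ha
    interval_cases a
    · exact hX
    · show el wX.reverse ∈ K
      rw [el_reverse]; exact inv_mem hX
    · exact hz
    · exact hi
  have h := hD.tags j hj
  simp only [tagAt, Bool.and_eq_true, List.all_eq_true, Nat.blt_eq] at h
  obtain ⟨⟨hjl, hma⟩, h⟩ := h
  have hexp : ∀ i, okLet (D.inv i) = true → ∀ m : List ℕ, (∀ a ∈ m, a < 4) → okLet (expand (D.inv i) m) = true := by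
    intro i hi m hm'
    simp only [okLet, List.all_eq_true]
    intro x hx
    obtain ⟨w, hw, hxw⟩ := List.mem_flatten.mp hx
    obtain ⟨a, ha, rfl⟩ := List.mem_map.mp hw
    have ha' := hm' a ha
    have hl : okLet (macroW (D.inv i) a) = true := by
      interval_cases a
      exacts [rfl, rfl, rfl, hi]
    exact List.all_eq_true.mp hl x hxw
  generalize D.tag j = n at h
  match n, h with
  | 0, h => exact absurd (el_eq h) hs5
  | 1, h =>
    exfalso
    simp only [Bool.and_eq_true, Nat.blt_eq] at h
    obtain ⟨⟨⟨hd, hp⟩, hpk⟩, hret⟩ := h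
    have hp' := List.contains_iff_mem.mp hp
    have h1 : D.prm j ∣ Nat.card K := by
      refine ((Nat.dvd_of_mod_eq_zero (Nat.eq_of_beq_eq_true hpk)).trans
        (dvd_order_of_ret (hexp j hjl _ hma) hd hret)).trans ?_
      exact Subgroup.orderOf_dvd_natCard _ (hmac j hs _ hma)
    rw [hK] at h1
    simp only [List.mem_cons, List.not_mem_nil, or_false] at hp'
    rcases hp' with e | e | e <;> rw [e] at h1 <;> norm_num at h1
  | n + 2, h =>
    simp only [Bool.and_eq_true, Nat.blt_eq] at h
    obtain ⟨hn, he⟩ := h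
    rw [List.getD_eq_getElem _ _ hn] at he
    set r := D.reps[n]
    have hr : el (D.inv r.idx) ∈ K := el_eq he ▸ hmac j hs _ hma
    have hrep := hD.reps r (List.getElem_mem hn)
    simp only [repOK, Bool.and_eq_true, List.all_eq_true, List.mem_range, Nat.blt_eq] at hrep
    obtain ⟨-, hw⟩ := hrep
    have ht : ∀ i < 6, el (target r i) ∈ K := fun i hi => el_eq (hw i hi).2 ▸ hmac _ hr _ (hw i hi).1
    let ψ : MulAut presON.Grp := MulAut.conj (el r.conj) * (if r.outer then phiA else 1)
    refine ⟨ψ, eq_of_le_of_card_ge ?_ ?_⟩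
    · rw [Cert.sub, MonoidHom.map_closure, closure_le]
      rintro _ ⟨_, ⟨w, hw', rfl⟩, rfl⟩
      obtain ⟨i, hi, rfl⟩ : ∃ i < 6, w = [i] := by
        have : w ∈ [[0], [1], [2], [3], [4], [5]] := hw'
        simp only [List.mem_cons, List.not_mem_nil, or_false] at this
        rcases this with rfl | rfl | rfl | rfl | rfl | rfl <;> exact ⟨_, by norm_num, rfl⟩
      have hmid : el (target r i) = ψ (presON.σ i) := by
        rw [target, el_append, el_append, el_reverse, ← mul_assoc]
        cases hro : r.outer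
        · simp [ψ, hro, el, MulAut.conj_apply]
        · simp only [ψ, hro, cond_true, if_true, MulAut.mul_apply, MulAut.conj_apply]
          rw [show phiA (presON.σ i) = el (phiW.getD i []).reverse from phiHom_σ (by omega)]
      show ψ ([i].map presON.σ).prod ∈ K
      simpa [← hmid] using ht i hi
    · rw [hK, Nat.card_congr (ON122760.cert.sub.equivMapOfInjective ψ.toMonoidHom ψ.injective).symm.toEquiv,
        presON_card_sub]

end LData

end CfsgON.L37
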