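/-
Checks on the listed involutions (inv, part 0).
-/
import Cfsg.Agent.Lib.ONRecog.L37.Data

set_option autoImplicit false
set_option maxRecDepth 1000000
set_option maxHeartbeats 4000000

namespace CfsgON.L37

open CfsgLib.CosetEnum

theorem inv0_ok : allFrom 0 100 ldata.invAt = true := by
  decide +kernel

theorem inv2_ok : allFrom 200 100 ldata.invAt = true := by
  decide +kernel

theorem inv4_ok : allFrom 400 100 ldata.invAt = true := by
  decide +kernel

theorem inv6_ok : allFrom 600 100 ldata.invAt = true := by
  decide +kernel

theorem inv8_ok : allFrom 800 100 ldata.invAt = true := by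
  decide +kernel

theorem inv10_ok : allFrom 1000 100 ldata.invAt = true := by
  decide +kernel

theorem inv12_ok : allFrom 1200 100 ldata.invAt = true := by
  decide +kernel

theorem inv14_ok : allFrom 1400 100 ldata.invAt = true := by
  decide +kernel

theorem inv16_ok : allFrom 1600 100 ldata.invAt = true := by
  decide +kernel

end CfsgON.L37
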