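/-
Checks on the listed involutions (inv, part 1).
-/
import Cfsg.Agent.Lib.ONRecog.L37.Data

set_option autoImplicit false
set_option maxRecDepth 1000000
set_option maxHeartbeats 4000000

namespace CfsgON.L37

open CfsgLib.CosetEnum

theorem inv1_ok : allFrom 100 100 ldata.invAt = true := by
  decide +kernel

theorem inv3_ok : allFrom 300 100 ldata.invAt = true := by
  decide +kernel

theorem inv5_ok : allFrom 500 100 ldata.invAt = true := by
  decide +kernel

theorem inv7_ok : allFrom 700 100 ldata.invAt = true := by
  decide +kernel

theorem inv9_ok : allFrom 900 100 ldata.invAt = true := by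
  decide +kernel

theorem inv11_ok : allFrom 1100 100 ldata.invAt = true := by
  decide +kernel

theorem inv13_ok : allFrom 1300 100 ldata.invAt = true := by
  decide +kernel

theorem inv15_ok : allFrom 1500 100 ldata.invAt = true := by
  decide +kernel

theorem inv17_ok : allFrom 1700 51 ldata.invAt = true := by
  decide +kernel

end CfsgON.L37
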