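/-
Checks on the listed involutions (syl, part 1).
-/
import Cfsg.Agent.Lib.ONRecog.L37.Data

set_option autoImplicit false
set_option maxRecDepth 1000000
set_option maxHeartbeats 4000000

namespace CfsgON.L37

open CfsgLib.CosetEnum

theorem syl1_ok : allFrom 128 128 ldata.sylAt = true := by
  decide +kernel

theorem syl3_ok : allFrom 384 128 ldata.sylAt = true := by
  decide +kernel

end CfsgON.L37
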