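/-
Checks on the listed involutions (tag, part 0).
-/
import Cfsg.Agent.Lib.ONRecog.L37.Data

set_option autoImplicit false
set_option maxRecDepth 1000000
set_option maxHeartbeats 4000000

namespace CfsgON.L37

open CfsgLib.CosetEnum

theorem tag0_ok : allFrom 0 100 ldata.tagAt = true := by
  decide +kernel

theorem tag2_ok : allFrom 200 100 ldata.tagAt = true := by
  decide +kernel

theorem tag4_ok : allFrom 400 100 ldata.tagAt = true := by
  decide +kernel

theorem tag6_ok : allFrom 600 100 ldata.tagAt = true := by
  decide +kernel

theorem tag8_ok : allFrom 800 100 ldata.tagAt = true := by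
  decide +kernel

theorem tag10_ok : allFrom 1000 100 ldata.tagAt = true := by
  decide +kernel

theorem tag12_ok : allFrom 1200 100 ldata.tagAt = true := by
  decide +kernel

theorem tag14_ok : allFrom 1400 100 ldata.tagAt = true := by
  decide +kernel

theorem tag16_ok : allFrom 1600 100 ldata.tagAt = true := by
  decide +kernel

end CfsgON.L37
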