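/-
All checks on the listed involutions.
-/
import Cfsg.Agent.Lib.ONRecog.L37.Classify
import Cfsg.Agent.Lib.ONRecog.L37.InvChk0
import Cfsg.Agent.Lib.ONRecog.L37.InvChk1
import Cfsg.Agent.Lib.ONRecog.L37.SylChk0
import Cfsg.Agent.Lib.ONRecog.L37.SylChk1
import Cfsg.Agent.Lib.ONRecog.L37.TagChk0
import Cfsg.Agent.Lib.ONRecog.L37.TagChk1

set_option autoImplicit false
set_option maxRecDepth 1000000
set_option maxHeartbeats 4000000

namespace CfsgON.L37

open CfsgLib.CosetEnum

theorem inv_all : ∀ d < 1751, ldata.invAt d = true := by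
  have h0 : ∀ d < 0, ldata.invAt d = true := fun d hd => absurd hd (Nat.not_lt_zero d)
  have h1 := allFrom_step inv0_ok h0
  have h2 := allFrom_step inv1_ok h1
  have h3 := allFrom_step inv2_ok h2
  have h4 := allFrom_step inv3_ok h3
  have h5 := allFrom_step inv4_ok h4
  have h6 := allFrom_step inv5_ok h5
  have h7 := allFrom_step inv6_ok h6
  have h8 := allFrom_step inv7_ok h7
  have h9 := allFrom_step inv8_ok h8
  have h10 := allFrom_step inv9_ok h9
  have h11 := allFrom_step inv10_ok h10
  have h12 := allFrom_step inv11_ok h11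
  have h13 := allFrom_step inv12_ok h12
  have h14 := allFrom_step inv13_ok h13
  have h15 := allFrom_step inv14_ok h14
  have h16 := allFrom_step inv15_ok h15
  have h17 := allFrom_step inv16_ok h16
  have h18 := allFrom_step inv17_ok h17
  exact h18

theorem syl_all : ∀ d < 512, ldata.sylAt d = true := by
  have h0 : ∀ d < 0, ldata.sylAt d = true := fun d hd => absurd hd (Nat.not_lt_zero d)
  have h1 := allFrom_step syl0_ok h0
  have h2 := allFrom_step syl1_ok h1
  have h3 := allFrom_step syl2_ok h2
  have h4 := allFrom_step syl3_ok h3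
  exact h4

theorem tag_all : ∀ d < 1751, ldata.tagAt d = true := by
  have h0 : ∀ d < 0, ldata.tagAt d = true := fun d hd => absurd hd (Nat.not_lt_zero d)
  have h1 := allFrom_step tag0_ok h0
  have h2 := allFrom_step tag1_ok h1
  have h3 := allFrom_step tag2_ok h2
  have h4 := allFrom_step tag3_ok h3
  have h5 := allFrom_step tag4_ok h4
  have h6 := allFrom_step tag5_ok h5
  have h7 := allFrom_step tag6_ok h6
  have h8 := allFrom_step tag7_ok h7
  have h9 := allFrom_step tag8_ok h8
  have h10 := allFrom_step tag9_ok h9
  have h11 := allFrom_step tag10_ok h10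
  have h12 := allFrom_step tag11_ok h11
  have h13 := allFrom_step tag12_ok h12
  have h14 := allFrom_step tag13_ok h13
  have h15 := allFrom_step tag14_ok h14
  have h16 := allFrom_step tag15_ok h15
  have h17 := allFrom_step tag16_ok h16
  have h18 := allFrom_step tag17_ok h17
  exact h18

theorem shape_ok : ldata.sylShape = true := by decide +kernel

theorem odd_ok : ldata.oddPart = true := by decide +kernel

theorem nine_ok : LData.nineOK = true := by decide +kernel

theorem rep_ok : ldata.reps.all ldata.repOK = true := by decide +kernel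

theorem ldata_good : ldata.Good :=
  ⟨inv_all, syl_all, shape_ok, odd_ok, List.all_eq_true.mp rep_ok, tag_all⟩

end CfsgON.L37
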