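/-
Moving a subgroup with a projective linear group of index two onto given elements.
-/
import Cfsg.Prelude.Def_Spor_ON
import Mathlib

set_option autoImplicit false
set_option maxHeartbeats 400000
set_option linter.unusedSectionVars false
set_option linter.style.haveILetI false

namespace CfsgON.L37

open Subgroup

universe u v

/-- Orbit lengths on cosets are carried along isomorphisms. -/
theorem orbit_ncard_map {G : Type u} {P : Type v} [Group G] [Group P] (e : G ≃* P) (H : Subgroup G) (K : Subgroup P)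
    (hK : H.map e.toMonoidHom = K) (q : P ⧸ K) :
    ∃ q' : G ⧸ H, (MulAction.orbit H q').ncard = (MulAction.orbit K q).ncard := by
  classical
  induction q using QuotientGroup.induction_on with
  | H a =>
  obtain ⟨b, rfl⟩ := e.surjective a
  have hmem : ∀ x : G, e x ∈ K ↔ x ∈ H := fun x => by
    rw [← hK]; exact Subgroup.mem_map_equiv.trans (by simp)
  let f : G ⧸ H → P ⧸ K := Quotient.lift (fun x => ((e x : P) : P ⧸ K)) fun x y h => by
    refine QuotientGroup.eq.mpr ?_
    rw [← map_inv, ← map_mul, hmem]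
    exact QuotientGroup.leftRel_apply.mp h
  have hf : Function.Injective f := by
    rintro ⟨x⟩ ⟨y⟩ h
    refine QuotientGroup.eq.mpr ?_
    have h' := QuotientGroup.eq.mp (show ((e x : P) : P ⧸ K) = (e y : P) from h)
    rwa [← map_inv, ← map_mul, hmem] at h'
  refine ⟨(b : G ⧸ H), ?_⟩
  rw [← Set.ncard_image_of_injective _ hf]
  congr 1
  ext q
  constructor
  · rintro ⟨_, ⟨h, rfl⟩, rfl⟩
    exact ⟨⟨e h, (hmem _).mpr h.2⟩, congrArg (QuotientGroup.mk (s := K)) (map_mul e (h : G) b).symm⟩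
  · rintro ⟨k, rfl⟩
    obtain ⟨h, hh⟩ := e.surjective (k : P)
    refine ⟨((h * b : G) : G ⧸ H), ⟨⟨h, (hmem h).mp (hh ▸ k.2)⟩, rfl⟩, ?_⟩
    show ((e (h * b) : P) : P ⧸ K) = ((k : P) * e b : P)
    rw [map_mul, hh]

/-- A diagonal matrix of determinant one. -/
def dA : Matrix.SpecialLinearGroup (Fin 3) (ZMod 7) := ⟨!![6, 0, 0; 0, 6, 0; 0, 0, 1], by decide⟩

/-- Another diagonal matrix of determinant one. -/
def dB : Matrix.SpecialLinearGroup (Fin 3) (ZMod 7) := ⟨!![1, 0, 0; 0, 6, 0; 0, 0, 6], by decide⟩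

/-- Two commuting involutions. -/
theorem exists_four {N : Type u} [Group N] (e : N ≃* Matrix.ProjectiveSpecialLinearGroup (Fin 3) (ZMod 7)) :
    ∃ a b : N, orderOf a = 2 ∧ orderOf b = 2 ∧ a ≠ b ∧ Commute a b := by
  classical
  let π := QuotientGroup.mk' (center (Matrix.SpecialLinearGroup (Fin 3) (ZMod 7)))
  have hne : ∀ x : Matrix.SpecialLinearGroup (Fin 3) (ZMod 7), x.1 0 0 ≠ x.1 1 1 ∨ x.1 1 1 ≠ x.1 2 2 → π x ≠ 1 := by
    intro x h hx
    obtain ⟨r, -, hr⟩ := Matrix.SpecialLinearGroup.mem_center_iff.mp ((QuotientGroup.eq_one_iff x).mp hx)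
    rw [← hr] at h
    simp [Matrix.scalar_apply] at h
  have ha : π dA * π dA = 1 := by
    rw [← map_mul, show dA * dA = 1 by decide, map_one]
  have hb : π dB * π dB = 1 := by
    rw [← map_mul, show dB * dB = 1 by decide, map_one]
  refine ⟨e.symm (π dA), e.symm (π dB), ?_, ?_, fun h => ?_, ?_⟩
  · rw [MulEquiv.orderOf_eq]
    exact orderOf_eq_prime (by rw [pow_two, ha]) (hne _ (by decide))
  · rw [MulEquiv.orderOf_eq]
    exact orderOf_eq_prime (by rw [pow_two, hb]) (hne _ (by decide))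
  · have h' := e.symm.injective h
    refine hne (dA * dB) (by decide) ?_
    rw [map_mul, ← h', ha]
  · refine Commute.map ?_ e.symm.toMonoidHom
    exact Commute.map (show Commute dA dB by unfold Commute SemiconjBy; decide) π

variable {P : Type u} [Group P] [Finite P]

/-- An involution inverting an element of order nineteen can be moved onto a given one. -/
theorem exists_inverted (hP : ¬ 19 ^ 2 ∣ Nat.card P) (hc : ∀ z : P, orderOf z = 2 → ¬ 19 ∣ Nat.card (centralizer ({z} : Set P)))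
    (X z₀ : P) (hX : orderOf X = 19) (hz₀ : orderOf z₀ = 2) (hinv : z₀ * X * z₀⁻¹ = X⁻¹)
    (H : Subgroup P) (N : Subgroup H) [N.Normal] (hN : N.index = 2) (h19 : 19 ∣ Nat.card N)
    (a b : N) (ha : orderOf a = 2) (hb : orderOf b = 2) (hab : a ≠ b) (hcom : Commute a b) :
    ∃ g : P, X ∈ H.map (MulAut.conj g).toMonoidHom ∧ z₀ ∈ H.map (MulAut.conj g).toMonoidHom ∧
      ∃ s ∈ H.map (MulAut.conj g).toMonoidHom, s * s = 1 ∧ s ≠ 1 ∧ s ≠ z₀ ∧ Commute s z₀ := by
  classical
  haveI : Fact (Nat.Prime 19) := ⟨by norm_num⟩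
  haveI : Fact (Nat.Prime 2) := ⟨Nat.prime_two⟩
  obtain ⟨x, hx⟩ := exists_prime_orderOf_dvd_card' (G := N) 19 h19
  set xP : P := ((x : H) : P) with hxP
  have hxo : orderOf xP = 19 := by rw [hxP, Subgroup.orderOf_coe, Subgroup.orderOf_coe, hx]
  have hsyl : ∀ g : P, orderOf g = 19 → ∃ S : Sylow 19 P, (S : Subgroup P) = zpowers g := by
    intro g hg
    have hidx : ¬ 19 ∣ (zpowers g).index := by
      intro h
      have hm := (zpowers g).card_mul_index
      rw [Nat.card_zpowers, hg] at hm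
      exact hP (hm ▸ (show 19 ^ 2 = 19 * 19 by norm_num) ▸ mul_dvd_mul_left 19 h)
    exact ⟨(IsPGroup.of_card (n := 1) (by rw [Nat.card_zpowers, hg, pow_one])).toSylow hidx, rfl⟩
  -- an involution normalising the subgroup of order nineteen
  let S : Sylow 19 N := Classical.choice (by
    obtain ⟨Q, hQ⟩ := (IsPGroup.of_card (p := 19) (n := 1) (G := ↥(zpowers x))
      (by rw [Nat.card_zpowers, hx, pow_one])).exists_le_sylow
    exact ⟨Q⟩)
  have hS : Nat.card (S : Subgroup N) = 19 := by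
    have h1 := Sylow.card_eq_multiplicity S
    rw [h1]
    have hd : Nat.card N ∣ Nat.card P := (card_subgroup_dvd_card N).trans (card_subgroup_dvd_card H)
    have hne : Nat.card N ≠ 0 := Nat.card_pos.ne'
    have h2 : (Nat.card N).factorization 19 < 2 := by
      by_contra h
      push Not at h
      exact hP (((Nat.Prime.pow_dvd_iff_le_factorization (by norm_num) hne).mpr h).trans hd)
    have h3 : 0 < (Nat.card N).factorization 19 := Nat.Prime.factorization_pos_of_dvd (by norm_num) hne h19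
    rw [show (Nat.card N).factorization 19 = 1 by omega, pow_one]
  obtain ⟨y, hy⟩ := exists_prime_orderOf_dvd_card' (G := (S : Subgroup N)) 19 (by rw [hS])
  set yP : P := (((y : N) : H) : P) with hyP
  have hyo : orderOf yP = 19 := by
    rw [hyP, Subgroup.orderOf_coe, Subgroup.orderOf_coe, Subgroup.orderOf_coe, hy]
  have hSy : (S : Subgroup N) = zpowers (y : N) :=
    (eq_of_le_of_card_ge (zpowers_le.mpr y.2) (by rw [hS, Nat.card_zpowers, Subgroup.orderOf_coe, hy])).symm
  set T := normalizer (((S : Subgroup N).map N.subtype : Subgroup H) : Set H) with hT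
  have hF : T ⊔ N = ⊤ := Sylow.normalizer_sup_eq_top S
  have h2T : 2 ∣ Nat.card T := by
    have hTN : ¬ T ≤ N := fun h => by
      rw [sup_eq_right.mpr h] at hF
      rw [hF, index_top] at hN
      omega
    obtain ⟨j, hj, hjN⟩ := SetLike.not_le_iff_exists.mp hTN
    have h2 : 2 ∣ orderOf j := by
      by_contra hodd
      apply hjN
      have : j ^ orderOf j ∈ N := by rw [pow_orderOf_eq_one]; exact one_mem _
      obtain ⟨k, hk⟩ : Odd (orderOf j) := Nat.odd_iff.mpr (by omega)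
      rw [hk, pow_succ, pow_mul] at this
      exact (N.mul_mem_cancel_left (pow_mem (Subgroup.sq_mem_of_index_two hN j) k)).mp this
    exact h2.trans ((Subgroup.orderOf_mk j hj) ▸ orderOf_dvd_natCard _)
  obtain ⟨z, hz⟩ := exists_prime_orderOf_dvd_card' (G := T) 2 h2T
  set zP : P := ((z : H) : P) with hzP
  have hzo : orderOf zP = 2 := by rw [hzP, Subgroup.orderOf_coe, Subgroup.orderOf_coe, hz]
  have hconjy : zP * yP * zP⁻¹ = yP⁻¹ := by
    have h1 : ((z : H) * ((y : N) : H) * (z : H)⁻¹) ∈ (S : Subgroup N).map N.subtype :=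
      (mem_normalizer_iff.mp z.2 _).mp ⟨(y : N), y.2, rfl⟩
    obtain ⟨w, hw, hwe⟩ := h1
    rw [hSy] at hw
    obtain ⟨k, rfl⟩ := mem_zpowers_iff.mp hw
    have he : zP * yP * zP⁻¹ = yP ^ k := by
      have := congrArg (fun q : H => (q : P)) hwe
      simpa [hzP, hyP] using this.symm
    have hz2 : zP * zP = 1 := by
      have := pow_orderOf_eq_one zP
      rwa [hzo, pow_two] at this
    have he2 : yP = (yP ^ k) ^ k := by
      rw [← he, conj_zpow, ← he]
      rw [show zP * (zP * yP * zP⁻¹) * zP⁻¹ = (zP * zP) * yP * (zP * zP)⁻¹ by group, hz2]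
      group
    have hk : (19 : ℤ) ∣ k * k - 1 := by
      have : yP ^ (k * k - 1) = 1 := by rw [zpow_sub, zpow_mul, ← he2, zpow_one, mul_inv_cancel]
      have h := orderOf_dvd_iff_zpow_eq_one.mpr this
      rw [hyo] at h
      exact_mod_cast h
    rw [show k * k - 1 = (k - 1) * (k + 1) by ring] at hk
    rcases (Int.prime_iff_natAbs_prime.mpr (show Nat.Prime (19 : ℤ).natAbs by norm_num)).dvd_mul.mp hk with h | h
    · exfalso
      have hk1 : yP ^ k = yP := by
        rw [← zpow_one yP, ← zpow_mul, one_mul, zpow_eq_zpow_iff_modEq, hyo]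
        exact (Int.modEq_iff_dvd.mpr (by simpa using h)).symm
      rw [hk1] at he
      refine hc zP hzo (hyo ▸ ?_)
      have hm : yP ∈ centralizer ({zP} : Set P) :=
        mem_centralizer_singleton_iff.mpr (mul_inv_eq_iff_eq_mul.mp he).symm
      exact (orderOf_mk yP hm) ▸ orderOf_dvd_natCard _
    · rw [he, eq_inv_iff_mul_eq_one, ← zpow_add_one]
      exact orderOf_dvd_iff_zpow_eq_one.mp (by rw [hyo]; exact_mod_cast h)
  -- move the element of order nineteen
  obtain ⟨SX, hSX⟩ := hsyl X hX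
  obtain ⟨SY, hSY⟩ := hsyl yP hyo
  obtain ⟨g, hg⟩ := MulAction.exists_smul_eq P SY SX
  have hgy : g * yP * g⁻¹ ∈ zpowers X := by
    rw [← hSX, ← hg, Sylow.coe_subgroup_smul, hSY]
    exact smul_mem_pointwise_smul yP (MulAut.conj g) _ (mem_zpowers yP)
  have hXg : X ∈ zpowers (g * yP * g⁻¹) := by
    have he := eq_of_le_of_card_ge (zpowers_le.mpr hgy) (by
      rw [Nat.card_zpowers, Nat.card_zpowers, hX, ← MulAut.conj_apply, MulEquiv.orderOf_eq, hyo])
    rw [he]; exact mem_zpowers X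
  obtain ⟨m, hm⟩ := mem_zpowers_iff.mp hXg
  set z₁ := g * zP * g⁻¹ with hz₁
  have hz₁o : orderOf z₁ = 2 := by rw [hz₁, ← MulAut.conj_apply, MulEquiv.orderOf_eq, hzo]
  have hz₁X : z₁ * X * z₁⁻¹ = X⁻¹ := by
    rw [← hm, ← conj_zpow, hz₁, show g * zP * g⁻¹ * (g * yP * g⁻¹) * (g * zP * g⁻¹)⁻¹ = g * (zP * yP * zP⁻¹) * g⁻¹ by group,
      hconjy, ← zpow_neg_one]
    simp only [conj_zpow]
    group
  have hsq : ∀ {w : P}, orderOf w = 2 → w * w = 1 := fun {w} hw => by
    have := pow_orderOf_eq_one w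
    rwa [hw, pow_two] at this
  -- the difference of the two involutions centralises
  set c := z₀ * z₁ with hc'
  have hz₀i : z₀⁻¹ = z₀ := inv_eq_of_mul_eq_one_right (hsq hz₀)
  have hz₁i : z₁⁻¹ = z₁ := inv_eq_of_mul_eq_one_right (hsq hz₁o)
  have hcX : Commute c X := by
    show c * X = X * c
    rw [← mul_inv_eq_iff_eq_mul, hc', show z₀ * z₁ * X * (z₀ * z₁)⁻¹ = z₀ * (z₁ * X * z₁⁻¹) * z₀⁻¹ by group, hz₁X,
      show z₀ * X⁻¹ * z₀⁻¹ = (z₀ * X * z₀⁻¹)⁻¹ by group, hinv, inv_inv]
  have hodd : Odd (orderOf c) := by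
    by_contra h
    rw [Nat.not_odd_iff_even, even_iff_two_dvd] at h
    obtain ⟨k, hk⟩ := h
    have hpos := orderOf_pos c
    have hck : orderOf (c ^ k) = 2 := by
      rw [orderOf_pow_of_dvd (by omega) ⟨2, by rw [hk, mul_comm]⟩, hk, Nat.mul_div_left _ (by omega : 0 < k)]
    refine hc _ hck (hX ▸ ?_)
    have hm' : X ∈ centralizer ({c ^ k} : Set P) :=
      mem_centralizer_singleton_iff.mpr (hcX.pow_left k).eq.symm
    exact (orderOf_mk X hm') ▸ orderOf_dvd_natCard _
  obtain ⟨k, hk⟩ := hodd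
  set d := c ^ (k + 1) with hd
  have hd2 : d * d = c := by
    rw [hd, ← pow_add, show k + 1 + (k + 1) = (2 * k + 1) + 1 by omega, pow_succ, ← hk, pow_orderOf_eq_one, one_mul]
  have hdc : z₀ * d * z₀⁻¹ = d⁻¹ := by
    rw [hd, ← conj_pow, ← inv_pow]
    congr 1
    rw [hc', mul_inv_rev, hz₀i, hz₁i, ← mul_assoc, hsq hz₀, one_mul]
  have hmove : d * z₁ * d⁻¹ = z₀ := by
    have e1 : z₁ = z₀ * (d * d) := by rw [hd2, hc', ← mul_assoc, hsq hz₀, one_mul]
    have e2 : d * z₀ = z₀ * d⁻¹ := by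
      rw [← hdc, hz₀i]
      calc d * z₀ = (z₀ * z₀) * d * z₀ := by rw [hsq hz₀, one_mul]
        _ = _ := by simp only [mul_assoc]
    rw [e1, ← mul_assoc, e2]
    group
  have hdX : Commute d X := hd ▸ hcX.pow_left _
  set γ := d * g with hγ
  set K := H.map (MulAut.conj γ).toMonoidHom with hK
  have hKz : z₀ ∈ K := ⟨zP, (z : H).2, by
    show γ * zP * γ⁻¹ = z₀
    rw [← hmove, hz₁, hγ]; group⟩
  have hKy : g * yP * g⁻¹ ∈ H.map (MulAut.conj g).toMonoidHom := ⟨yP, ((y : N) : H).2, rfl⟩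
  have hKX : X ∈ K := by
    have h1 : X ∈ H.map (MulAut.conj g).toMonoidHom := hm ▸ zpow_mem hKy m
    obtain ⟨h, hh, he⟩ := h1
    refine ⟨h, hh, ?_⟩
    show γ * h * γ⁻¹ = X
    rw [hγ, show d * g * h * (d * g)⁻¹ = d * (g * h * g⁻¹) * d⁻¹ by group,
      show g * h * g⁻¹ = X from he, hdX.eq, mul_inv_cancel_right]
  refine ⟨γ, hKX, hKz, ?_⟩
  -- a second involution commuting with the first
  let φ : N →* P := (MulAut.conj γ).toMonoidHom.comp (H.subtype.comp N.subtype)
  have hφ : Function.Injective φ :=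
    (MulAut.conj γ).injective.comp (Subtype.val_injective.comp Subtype.val_injective)
  have hφK : ∀ n, φ n ∈ K := fun n => ⟨((n : H) : P), (n : H).2, rfl⟩
  let z' : K := ⟨z₀, hKz⟩
  let a' : K := ⟨φ a, hφK a⟩
  let b' : K := ⟨φ b, hφK b⟩
  have ha2 : orderOf a' = 2 := by rw [orderOf_mk, orderOf_injective φ hφ, ha]
  have hb2 : orderOf b' = 2 := by rw [orderOf_mk, orderOf_injective φ hφ, hb]
  have hab' : Commute a' b' := Subtype.ext (hcom.map φ).eq
  have hne' : a' ≠ b' := fun h => hab (hφ (congrArg Subtype.val h))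
  obtain ⟨Q, hQ⟩ := (IsPGroup.of_card (p := 2) (n := 1) (G := ↥(zpowers z'))
    (by rw [Nat.card_zpowers, orderOf_mk, hz₀, pow_one])).exists_le_sylow
  have hV : IsPGroup 2 (zpowers a' ⊔ zpowers b' : Subgroup K) := by
    refine IsPGroup.to_sup_of_normal_right' (IsPGroup.of_card (n := 1) (by rw [Nat.card_zpowers, ha2, pow_one]))
      (IsPGroup.of_card (n := 1) (by rw [Nat.card_zpowers, hb2, pow_one])) ?_
    rw [zpowers_le, mem_normalizer_iff]
    intro h
    constructor
    · intro hh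
      obtain ⟨k, rfl⟩ := mem_zpowers_iff.mp hh
      rw [(hab'.zpow_right k).eq, mul_inv_cancel_right]
      exact zpow_mem (mem_zpowers b') k
    · intro hh
      obtain ⟨k, hk⟩ := mem_zpowers_iff.mp hh
      have : h = b' ^ k := by
        have hh' : h = a'⁻¹ * b' ^ k * a' := by rw [hk]; group
        rw [hh', mul_assoc, ← (hab'.zpow_right k).eq, inv_mul_cancel_left]
      rw [this]
      exact zpow_mem (mem_zpowers b') k
  obtain ⟨R, hR⟩ := hV.exists_le_sylow
  obtain ⟨j, hj⟩ := MulAction.exists_smul_eq K R Q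
  have hin : ∀ v ∈ (R : Subgroup K), j * v * j⁻¹ ∈ (Q : Subgroup K) := fun v hv => by
    rw [← hj, Sylow.coe_subgroup_smul]
    exact smul_mem_pointwise_smul v (MulAut.conj j) _ hv
  have hz'Q : z' ∈ (Q : Subgroup K) := hQ (mem_zpowers z')
  haveI : Nontrivial (Q : Subgroup K) := ⟨⟨⟨z', hz'Q⟩, 1, fun h => by
    have h' : z' = 1 := congrArg Subtype.val h
    have := orderOf_eq_one_iff.mpr h'
    rw [orderOf_mk, hz₀] at this
    omega⟩⟩
  haveI := Q.isPGroup'.center_nontrivial
  obtain ⟨w, hw⟩ : ∃ w : center (Q : Subgroup K), orderOf w = 2 := by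
    obtain ⟨n, hn⟩ := IsPGroup.iff_card.mp (Q.isPGroup'.to_subgroup (center (Q : Subgroup K)))
    refine exists_prime_orderOf_dvd_card' 2 ?_
    rw [hn]
    refine dvd_pow_self 2 fun h0 => ?_
    rw [h0, pow_zero] at hn
    exact (Finite.one_lt_card (α := center (Q : Subgroup K))).ne' hn
  set wK : K := ((w : (Q : Subgroup K)) : K) with hwK
  have hwo : orderOf wK = 2 := by rw [hwK, Subgroup.orderOf_coe, Subgroup.orderOf_coe, hw]
  have hwc : ∀ v ∈ (Q : Subgroup K), Commute wK v := fun v hv =>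
    (congrArg Subtype.val (mem_center_iff.mp w.2 ⟨v, hv⟩)).symm
  obtain ⟨s, hs, hs2, hsz⟩ : ∃ s : K, s ≠ z' ∧ orderOf s = 2 ∧ Commute s z' := by
    by_cases h : wK = z'
    · have hca : ∀ v ∈ (R : Subgroup K), Commute (j * v * j⁻¹) z' := fun v hv => (h ▸ hwc _ (hin v hv)).symm
      by_cases h1 : j * a' * j⁻¹ = z'
      · refine ⟨j * b' * j⁻¹, fun h2 => hne' ?_, by rw [← MulAut.conj_apply, MulEquiv.orderOf_eq, hb2],
          hca _ (hR (mem_sup_right (mem_zpowers b')))⟩
        exact mul_left_cancel (mul_right_cancel (h1.trans h2.symm))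
      · exact ⟨_, h1, by rw [← MulAut.conj_apply, MulEquiv.orderOf_eq, ha2],
          hca _ (hR (mem_sup_left (mem_zpowers a')))⟩
    · exact ⟨wK, h, hwo, hwc _ hz'Q⟩
  have hso : orderOf (s : P) = 2 := by rw [Subgroup.orderOf_coe, hs2]
  exact ⟨s, s.2, hsq hso, fun e => by rw [e, orderOf_one] at hso; omega, fun e => hs (Subtype.ext e),
    congrArg Subtype.val hsz.eq⟩

end CfsgON.L37
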