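/-
The subgroups with a projective linear group of index two and their orbits.
-/
import Cfsg.Agent.Lib.ONRecog.L37.Good
import Cfsg.Agent.Lib.ONRecog.L37.Reduce
import Cfsg.Agent.Lib.CosetEnum.ONChain.Main

set_option autoImplicit false
set_option maxRecDepth 100000
set_option maxHeartbeats 400000
set_option linter.style.haveILetI false

namespace CfsgON.L37

open Subgroup CfsgLib.CosetEnum CfsgLib.CosetEnum.ON122760 CfsgLib.CosetEnum.ONOut

universe u

theorem roots_lab : ([1, 2, 3, 4].all fun l => Nat.blt (ONChain.roots.getD l 0) 122760 &&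
    Nat.beq (orbLab ONChain.orb (ONChain.roots.getD l 0)) l) = true := by decide +kernel

/-- The orbit lengths of the point stabiliser. -/
theorem sub_orbit {l : ℕ} (hl : l ∈ [1, 2, 3, 4]) :
    ∃ q : presON.Grp ⧸ cert.sub, (MulAction.orbit cert.sub q).ncard = countLab ONChain.orb l 122760 := by
  obtain ⟨e, he⟩ := cert.exists_equiv hlt presON_idx hhw
  have h := List.all_eq_true.mp roots_lab l hl
  rw [Bool.and_eq_true, blt_iff] at h
  exact ⟨_, cert.orbit_ncard hlt presON_idx hhw e he ONChain.orb ONChain.roots hwR rfl ONChain.orbs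
    (l := l) h.1 (Nat.eq_of_beq_eq_true h.2)⟩

/-- The subgroups of this type in a group with one class of involutions isomorphic to the presented group. -/
theorem main {G : Type u} [Group G] [Finite G] (φ : G ≃* presON.Grp) (t : G) (ht : orderOf t = 2)
    (hct : Nat.card (centralizer ({t} : Set G)) = 161280) (hone : ∀ s : G, orderOf s = 2 → ∃ g : G, g * t * g⁻¹ = s)
    (H : Subgroup G) (N : Subgroup H) [N.Normal] (hN : N.index = 2)
    (eN : N ≃* Matrix.ProjectiveSpecialLinearGroup (Fin 3) (ZMod 7)) :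
    H.index = 122760 ∧ ∃ q₁ q₂ q₃ q₄ : G ⧸ H, (MulAction.orbit H q₁).ncard = 6384 ∧
      (MulAction.orbit H q₂).ncard = 5586 ∧ (MulAction.orbit H q₃).ncard = 58653 ∧
      (MulAction.orbit H q₄).ncard = 52136 := by
  classical
  haveI : Finite presON.Grp := presON_upper.1
  have hcG : Nat.card G = 460815505920 := by rw [Nat.card_congr φ.toEquiv, presON_card]
  have hcN : Nat.card N = 1876896 := by rw [Nat.card_congr eN.toEquiv]; exact ONL37.card_psl
  have hcH : Nat.card H = 3753792 := by rw [← N.card_mul_index, hcN, hN]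
  refine ⟨?_, ?_⟩
  · have h := H.card_mul_index
    rw [hcH, hcG] at h
    omega
  -- every involution of the presented group has a centraliser of order 161280
  have hc : ∀ z : presON.Grp, orderOf z = 2 → Nat.card (centralizer ({z} : Set presON.Grp)) = 161280 := by
    intro z hz
    obtain ⟨g, hg⟩ := hone (φ.symm z) (by rw [MulEquiv.orderOf_eq, hz])
    have hgz : φ g * φ t * (φ g)⁻¹ = z := by rw [← map_inv, ← map_mul, ← map_mul, hg, φ.apply_symm_apply]
    rw [← hct]
    symm
    refine Nat.card_congr (((MulAut.conj g).trans φ).toEquiv.subtypeEquiv fun x => ?_)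
    show x ∈ centralizer ({t} : Set G) ↔ φ (g * x * g⁻¹) ∈ centralizer ({z} : Set presON.Grp)
    rw [mem_centralizer_singleton_iff, mem_centralizer_singleton_iff, ← hgz, ← map_inv, ← map_mul, ← map_mul,
      ← map_mul, ← map_mul, φ.injective.eq_iff,
      show g * x * g⁻¹ * (g * t * g⁻¹) = g * (x * t) * g⁻¹ by group,
      show g * t * g⁻¹ * (g * x * g⁻¹) = g * (t * x) * g⁻¹ by group, mul_left_inj, mul_right_inj]
  have hnine := nine_ok
  simp only [LData.nineOK, Bool.and_eq_true, Bool.not_eq_true'] at hnine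
  obtain ⟨⟨⟨⟨hx1, hx2⟩, hxz⟩, hz1⟩, hz2⟩ := hnine
  have hXo : orderOf (el wX) = 19 := orderOf_el (by norm_num) rfl hx1 hx2
  have hzo : orderOf (el [5]) = 2 := orderOf_el Nat.prime_two rfl hz1 hz2
  have hzinv : el [5] * el wX * (el [5])⁻¹ = (el wX)⁻¹ := by
    have e := el_eq hxz
    rw [el_append, el_append, el_reverse] at e
    rw [← e, show (el [5])⁻¹ = el [5] from (el_reverse [5]).symm]
    simp only [mul_assoc]
  let H' := H.map φ.toMonoidHom
  let eH : H ≃* H' := H.equivMapOfInjective φ.toMonoidHom φ.injective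
  let N' := N.map eH.toMonoidHom
  haveI : N'.Normal := Normal.map inferInstance _ eH.surjective
  let eN' : N ≃* N' := N.equivMapOfInjective eH.toMonoidHom eH.injective
  obtain ⟨a, b, ha, hb, hab, hcom⟩ := exists_four eN
  obtain ⟨γ, hX, hz, s, hs, hs2, hs1, hs5, hcs⟩ := exists_inverted (P := presON.Grp)
    (by rw [presON_card]; norm_num) (fun z hz => by rw [hc z hz]; norm_num) (el wX) (el [5]) hXo hzo hzinv H' N'
    (by rw [Subgroup.index_map_of_bijective (f := eH.toMonoidHom) eH.bijective, hN])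
    (by rw [← Nat.card_congr eN'.toEquiv, hcN]; norm_num) (eN' a) (eN' b)
    (by rw [MulEquiv.orderOf_eq, ha]) (by rw [MulEquiv.orderOf_eq, hb]) (fun e => hab (eN'.injective e))
    (hcom.map eN'.toMonoidHom)
  set K := H'.map (MulAut.conj γ).toMonoidHom with hK
  have hcK : Nat.card K = 3753792 := by
    rw [hK, ← Nat.card_congr (H'.equivMapOfInjective (MulAut.conj γ).toMonoidHom (MulAut.conj γ).injective).toEquiv,
      ← Nat.card_congr eH.toEquiv, hcH]
  obtain ⟨ψ, hψ⟩ := LData.classify ldata_good (hc _ hzo) K hcK hX hz s hs hs2 hs1 hs5 hcs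
  let e : G ≃* presON.Grp := φ.trans ((MulAut.conj γ).trans (ψ⁻¹ : MulAut presON.Grp))
  have he : H.map e.toMonoidHom = cert.sub := by
    rw [show e.toMonoidHom = (ψ⁻¹ : MulAut presON.Grp).toMonoidHom.comp
        ((MulAut.conj γ).toMonoidHom.comp φ.toMonoidHom) from rfl,
      ← Subgroup.map_map, ← Subgroup.map_map]
    show K.map (ψ⁻¹ : MulAut presON.Grp).toMonoidHom = _
    rw [← hψ, Subgroup.map_map]
    have : ((ψ⁻¹ : MulAut presON.Grp).toMonoidHom.comp ψ.toMonoidHom) = MonoidHom.id _ :=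
      MonoidHom.ext fun x => MulAut.inv_apply_self _ ψ x
    rw [this, Subgroup.map_id]
  have horb : ∀ l ∈ [1, 2, 3, 4], ∃ q : G ⧸ H, (MulAction.orbit H q).ncard = countLab ONChain.orb l 122760 := by
    intro l hl
    obtain ⟨q, hq⟩ := sub_orbit hl
    obtain ⟨q', hq'⟩ := orbit_ncard_map e H _ he q
    exact ⟨q', hq'.trans hq⟩
  obtain ⟨q₁, h₁⟩ := horb 4 (by simp)
  obtain ⟨q₂, h₂⟩ := horb 3 (by simp)
  obtain ⟨q₃, h₃⟩ := horb 1 (by simp)
  obtain ⟨q₄, h₄⟩ := horb 2 (by simp)
  exact ⟨q₁, q₂, q₃, q₄, h₁.trans ONChain.count4, h₂.trans ONChain.count3, h₃.trans ONChain.count1,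
    h₄.trans ONChain.count2⟩

end CfsgON.L37
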